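import Cfsg.Agent.Lib.KnownA.SteinbergCoverR3

set_option autoImplicit false
set_option maxRecDepth 20000
set_option Elab.async false

/-!
The certificate for (R3) over finite fields, for the seven tables.
-/

namespace CfsgLib.KnownA.SteinbergUniv

open CfsgLib.Chevalley

theorem g2_chkR3 : chkR3 Data.G2.tbl = true := by decide +kernel
theorem b2_chkR3 : chkR3 Data.B2.tbl = true := by decide +kernel
theorem d4_chkR3 : chkR3 Data.D4.tbl = true := by decide +kernel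
theorem f4_chkR3 : chkR3 Data.F4.tbl = true := by decide +kernel
theorem e6_chkR3 : chkR3 Data.E6.tbl = true := by decide +kernel
theorem e7_chkR3 : chkR3 Data.E7.tbl = true := by decide +kernel
theorem e8_chkR3 : chkR3 Data.E8.tbl = true := by decide +kernel

theorem exists_tbl_r3 {D : Cfsg.Lie.ChevalleyDatum}
    (hD : D ∈ [Cfsg.Lie.chevG2, Cfsg.Lie.chevB2, Cfsg.Lie.chevD4, Cfsg.Lie.chevF4, Cfsg.Lie.chevE6,
      Cfsg.Lie.chevE7, Cfsg.Lie.chevE8]) :
    ∃ T : Tbl, T.StOk ∧ chkR3 T = true ∧ T.datum = D := by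
  simp only [List.mem_cons, List.not_mem_nil, or_false] at hD
  rcases hD with rfl | rfl | rfl | rfl | rfl | rfl | rfl
  · exact ⟨_, ⟨Data.G2.valid, Data.G2.chkComm, Data.G2.chkSorted, Data.G2.chkSplit⟩, g2_chkR3,
      Data.G2.datum_eq⟩
  · exact ⟨_, ⟨Data.B2.valid, Data.B2.chkComm, Data.B2.chkSorted, Data.B2.chkSplit⟩, b2_chkR3,
      Data.B2.datum_eq⟩
  · exact ⟨_, ⟨Data.D4.valid, Data.D4.chkComm, Data.D4.chkSorted, Data.D4.chkSplit⟩, d4_chkR3,
      Data.D4.datum_eq⟩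
  · exact ⟨_, ⟨Data.F4.valid, Data.F4.chkComm, Data.F4.chkSorted, Data.F4.chkSplit⟩, f4_chkR3,
      Data.F4.datum_eq⟩
  · exact ⟨_, ⟨Data.E6.valid, Data.E6.chkComm, Data.E6.chkSorted, Data.E6.chkSplit⟩, e6_chkR3,
      Data.E6.datum_eq⟩
  · exact ⟨_, ⟨Data.E7.valid, Data.E7.chkComm, Data.E7.chkSorted, Data.E7.chkSplit⟩, e7_chkR3,
      Data.E7.datum_eq⟩
  · exact ⟨_, ⟨Data.E8.valid, Data.E8.chkComm, Data.E8.chkSorted, Data.E8.chkSplit⟩, e8_chkR3,
      Data.E8.datum_eq⟩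

end CfsgLib.KnownA.SteinbergUniv
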