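import Cfsg.Agent.Lib.KnownA.SteinbergLaced
import Cfsg.Agent.Lib.Chevalley.Data.E6

/-!
Certificates for the lifts in central extensions, type E6.
-/

set_option autoImplicit false
set_option maxRecDepth 20000
set_option Elab.async false

namespace CfsgLib.KnownA.SteinbergUniv

open CfsgLib.Chevalley

theorem e6_chkLaced : chkLaced Data.E6.tbl = true := by decide +kernel

theorem e6_isK : allLt (fun v => Data.E6.tbl.isK v) Data.E6.tbl.n = true := by decide +kernel

end CfsgLib.KnownA.SteinbergUniv
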