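import Cfsg.Agent.Lib.KnownA.SteinbergLaced
import Cfsg.Agent.Lib.Chevalley.Data.E7

/-!
Certificates for the lifts in central extensions, type E7.
-/

set_option autoImplicit false
set_option maxRecDepth 20000
set_option Elab.async false

namespace CfsgLib.KnownA.SteinbergUniv

open CfsgLib.Chevalley

theorem e7_rows0 :
    allLt (fun j => !(Nat.blt (21 * 0 + j) Data.E7.tbl.n) || chkRow Data.E7.tbl (21 * 0 + j)) 21 = true := by decide +kernel

theorem e7_rows1 :
    allLt (fun j => !(Nat.blt (21 * 1 + j) Data.E7.tbl.n) || chkRow Data.E7.tbl (21 * 1 + j)) 21 = true := by decide +kernel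

theorem e7_rows2 :
    allLt (fun j => !(Nat.blt (21 * 2 + j) Data.E7.tbl.n) || chkRow Data.E7.tbl (21 * 2 + j)) 21 = true := by decide +kernel

theorem e7_rows3 :
    allLt (fun j => !(Nat.blt (21 * 3 + j) Data.E7.tbl.n) || chkRow Data.E7.tbl (21 * 3 + j)) 21 = true := by decide +kernel

theorem e7_rows4 :
    allLt (fun j => !(Nat.blt (21 * 4 + j) Data.E7.tbl.n) || chkRow Data.E7.tbl (21 * 4 + j)) 21 = true := by decide +kernel

theorem e7_rows5 :
    allLt (fun j => !(Nat.blt (21 * 5 + j) Data.E7.tbl.n) || chkRow Data.E7.tbl (21 * 5 + j)) 21 = true := by decide +kernel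

theorem e7_chkLaced : chkLaced Data.E7.tbl = true := by
  refine Tbl.allLt_of_blocks (k := 21) (b := 6) (by norm_num) (by decide) fun c hc => ?_
  interval_cases c
  · exact e7_rows0
  · exact e7_rows1
  · exact e7_rows2
  · exact e7_rows3
  · exact e7_rows4
  · exact e7_rows5

theorem e7_isK : allLt (fun v => Data.E7.tbl.isK v) Data.E7.tbl.n = true := by decide +kernel

end CfsgLib.KnownA.SteinbergUniv
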