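import Cfsg.Agent.Lib.KnownA.SteinbergCert.E8Rows0
import Cfsg.Agent.Lib.KnownA.SteinbergCert.E8Rows1
import Cfsg.Agent.Lib.KnownA.SteinbergCert.E8Rows2
import Cfsg.Agent.Lib.KnownA.SteinbergCert.E8Rows3

/-!
Certificates for the lifts in central extensions, type E8.
-/

set_option autoImplicit false
set_option maxRecDepth 20000
set_option Elab.async false

namespace CfsgLib.KnownA.SteinbergUniv

open CfsgLib.Chevalley

theorem e8_chkLaced : chkLaced Data.E8.tbl = true := by
  refine Tbl.allLt_of_blocks (k := 10) (b := 24) (by norm_num) (by decide) fun c hc => ?_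
  interval_cases c
  · exact e8_rows0
  · exact e8_rows1
  · exact e8_rows2
  · exact e8_rows3
  · exact e8_rows4
  · exact e8_rows5
  · exact e8_rows6
  · exact e8_rows7
  · exact e8_rows8
  · exact e8_rows9
  · exact e8_rows10
  · exact e8_rows11
  · exact e8_rows12
  · exact e8_rows13
  · exact e8_rows14
  · exact e8_rows15
  · exact e8_rows16
  · exact e8_rows17
  · exact e8_rows18
  · exact e8_rows19
  · exact e8_rows20
  · exact e8_rows21
  · exact e8_rows22
  · exact e8_rows23

theorem e8_isK : allLt (fun v => Data.E8.tbl.isK v) Data.E8.tbl.n = true := by decide +kernel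

end CfsgLib.KnownA.SteinbergUniv
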