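import Cfsg.Agent.Lib.KnownA.SteinbergTorusLift
import Cfsg.Agent.Lib.Chevalley.Data.G2
import Cfsg.Agent.Lib.Chevalley.Data.F4

/-!
Certificates for the lifts through the torus, types G2 and F4.
-/

set_option autoImplicit false
set_option maxRecDepth 20000
set_option Elab.async false

namespace CfsgLib.KnownA.SteinbergUniv

open CfsgLib.Chevalley

/-- Words of type F4 moving pairs of roots to positive ones. -/
def f4Words : List (List ℕ) := [[], [2, 1, 2, 0, 1, 2, 3, 2, 1, 2, 0, 1, 2, 0, 1, 0], [0, 1, 2, 3, 1, 2, 0, 1, 2, 3, 2, 1, 2, 0], [2, 1, 2, 3, 2, 1, 2, 0, 1, 2, 3, 2, 0, 1], [3, 2, 1, 2, 0, 1, 2, 3, 1, 2, 0, 1, 2], [2, 1, 2, 3, 2, 1, 2, 0, 1, 2, 3, 1, 2, 0, 1, 0], [2, 1, 2, 0, 1, 2, 3, 1, 2], [2, 1, 2, 3, 1, 2, 0, 1, 2, 0, 1, 0], [1, 2, 0, 1, 2, 3, 0, 1, 2, 1], [2, 1, 2, 3, 2, 1, 2, 1, 0], [2, 0, 1, 2, 3, 2, 1, 2, 0, 1, 2, 3, 1, 0], [3, 1, 2, 0, 1, 2, 3, 2, 1, 2, 0, 1], [2, 1, 2, 0,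 1, 2, 3, 2, 1, 2, 1]]

/-- Type G2, at least five elements. -/
def g2Cert : TorusCert := ⟨[1, 2, 3], [], true, [[], [0, 1, 0], [0, 1, 0, 1], [0, 1], [0, 1, 0, 1, 0], [0], [1, 0, 1, 0, 1], [1], [1, 0], [1, 0, 1], [1, 0, 1, 0], [1, 0, 1, 0, 1, 0]]⟩

/-- Type F4, characteristic two, at least four elements. -/
def f4CertEven : TorusCert := ⟨[1, 2], [1], false, f4Words⟩

/-- Type F4, odd characteristic. -/
def f4CertOdd : TorusCert := ⟨[1], [1, 2], false, f4Words⟩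

theorem g2_chkTorus : chkTorus Data.G2.tbl g2Cert = true := by decide +kernel

theorem g2_isK : allLt (fun v => Data.G2.tbl.isK v) Data.G2.tbl.n = true := by decide +kernel

theorem f4_chkTorus_even : chkTorus Data.F4.tbl f4CertEven = true := by decide +kernel

theorem f4_chkTorus_odd : chkTorus Data.F4.tbl f4CertOdd = true := by decide +kernel

theorem f4_isK : allLt (fun v => Data.F4.tbl.isK v) Data.F4.tbl.n = true := by decide +kernel

end CfsgLib.KnownA.SteinbergUniv
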