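import Cfsg.Agent.Lib.KnownA.SteinbergCoverTables
import Cfsg.Agent.Lib.KnownA.SteinbergLaced
import Cfsg.Agent.Lib.KnownA.SteinbergCert.G2F4
import Cfsg.Agent.Lib.KnownA.SteinbergCert.E6
import Cfsg.Agent.Lib.KnownA.SteinbergCert.E7
import Cfsg.Agent.Lib.KnownA.SteinbergCert.E8

/-!
For a field with more than four elements every central extension of one of the seven groups has lifts
of the root elements satisfying (R1), (R2).
-/

set_option autoImplicit false
set_option maxRecDepth 20000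
set_option Elab.async false

namespace CfsgLib.KnownA.SteinbergUniv

open CfsgLib.Chevalley

/-- Type B2, at least five elements. -/
def b2Cert : TorusCert :=
  ⟨[1, 2], [1], true, [[], [0], [1], [0, 1], [1, 0], [0, 1, 0], [1, 0, 1], [0, 1, 0, 1]]⟩

/-- Type D4. -/
def d4Cert : TorusCert :=
  ⟨[1, 2], [1], false, [[], [1, 0, 2, 1, 0, 2], [1, 0, 2, 1, 3, 0, 2], [1, 0, 2, 1, 3, 0, 2, 1],
    [0, 2, 1, 0, 3, 1, 2], [0, 2, 1, 3, 0, 2, 1, 0], [1, 3, 1], [0, 2, 1, 3, 0, 2, 1, 0, 2]]⟩

theorem b2_chkTorus : chkTorus Data.B2.tbl b2Cert = true := by decide +kernel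

theorem d4_chkTorus : chkTorus Data.D4.tbl d4Cert = true := by decide +kernel

theorem exists_pow_ne_one_of_card {K : Type*} [Field K] {k m : ℕ} (hk : 0 < k) (s : Finset K)
    (hs : m < s.card) (hm : k + 1 ≤ m) : ∃ c : Kˣ, c ^ k ≠ 1 := by
  classical
  by_contra hall
  push Not at hall
  have hsub : s ⊆ insert 0 (Polynomial.nthRoots k (1 : K)).toFinset := fun x _ => by
    rcases eq_or_ne x 0 with rfl | hx
    · exact Finset.mem_insert_self _ _
    · refine Finset.mem_insert_of_mem (Multiset.mem_toFinset.2 ((Polynomial.mem_nthRoots hk).2 ?_))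
      have := congrArg Units.val (hall (Units.mk0 x hx))
      simpa using this
  have h1 := (Finset.card_le_card hsub).trans (Finset.card_insert_le _ _)
  have h2 := (Multiset.toFinset_card_le _).trans (Polynomial.card_nthRoots k (1 : K))
  omega

open Polynomial in
theorem exists_homoth_of_card {K : Type*} [Field K] (s : Finset K) (hs : 4 < s.card) :
    ∃ u : K, u ≠ 0 ∧ u + 1 ≠ 0 ∧ u * u + u + 1 ≠ 0 := by
  classical
  let p : K[X] := X * (X + 1) * (X * X + X + 1)
  have hdeg : p.natDegree ≤ 4 := by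
    simp only [p]
    compute_degree
    all_goals omega
  have hp : p ≠ 0 := by
    simp only [p]
    refine mul_ne_zero (mul_ne_zero X_ne_zero ?_) ?_ <;>
      · intro h'
        simpa using congrArg (Polynomial.eval 0) h'
  obtain ⟨u, -, hu⟩ : ∃ u ∈ s, u ∉ p.roots.toFinset := by
    by_contra h'
    push Not at h'
    have h1 := Finset.card_le_card h'
    have h2 := (Multiset.toFinset_card_le _).trans (p.card_roots'.trans hdeg)
    omega
  rw [Multiset.mem_toFinset, mem_roots hp, IsRoot] at hu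
  simp only [p, eval_mul, eval_add, eval_X, eval_one, mul_ne_zero_iff] at hu
  exact ⟨u, hu.1.1, hu.1.2, hu.2⟩

universe u v

theorem exists_tbl_lift {K : Type u} [Field K] (hK5 : ∃ s : Finset K, 4 < s.card)
    {D : Cfsg.Lie.ChevalleyDatum}
    (hD : D ∈ [Cfsg.Lie.chevG2, Cfsg.Lie.chevB2, Cfsg.Lie.chevD4, Cfsg.Lie.chevF4, Cfsg.Lie.chevE6,
      Cfsg.Lie.chevE7, Cfsg.Lie.chevE8]) :
    ∃ T : Tbl, ∃ torus : Bool, T.StOk ∧ T.chkPerfect torus = true ∧ T.datum = D ∧
      ∀ (E : Type v) [Group E] (c : Cov T K E), Nonempty (YLift c) := by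
  obtain ⟨s, hs⟩ := hK5
  have p1 := exists_pow_ne_one_of_card (k := 1) one_pos s hs (by norm_num)
  have p2 := exists_pow_ne_one_of_card (k := 2) two_pos s hs (by norm_num)
  have p3 := exists_pow_ne_one_of_card (k := 3) three_pos s hs (by norm_num)
  have hhom := exists_homoth_of_card s hs
  simp only [List.mem_cons, List.not_mem_nil, or_false] at hD
  rcases hD with rfl | rfl | rfl | rfl | rfl | rfl | rfl
  · have hok : FieldOk K g2Cert := ⟨fun k hk => by
      simp [g2Cert] at hk; rcases hk with rfl | rfl | rfl <;> assumption,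
      fun k hk => by simp [g2Cert] at hk, fun _ => hhom⟩
    exact ⟨_, _, ⟨Data.G2.valid, Data.G2.chkComm, Data.G2.chkSorted, Data.G2.chkSplit⟩,
      Data.G2.chkPerfect, Data.G2.datum_eq,
      fun E _ c => ⟨yLiftT Data.G2.valid Data.G2.chkComm g2_chkTorus hok c⟩⟩
  · have hok : FieldOk K b2Cert := ⟨fun k hk => by
      simp [b2Cert] at hk; rcases hk with rfl | rfl <;> assumption,
      fun k hk => by simp [b2Cert] at hk; simp [hk], fun _ => hhom⟩
    exact ⟨_, _, ⟨Data.B2.valid, Data.B2.chkComm, Data.B2.chkSorted, Data.B2.chkSplit⟩,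
      Data.B2.chkPerfect, Data.B2.datum_eq,
      fun E _ c => ⟨yLiftT Data.B2.valid Data.B2.chkComm b2_chkTorus hok c⟩⟩
  · have hok : FieldOk K d4Cert := ⟨fun k hk => by
      simp [d4Cert] at hk; rcases hk with rfl | rfl <;> assumption,
      fun k hk => by simp [d4Cert] at hk; simp [hk], fun h => by simp [d4Cert] at h⟩
    exact ⟨_, _, ⟨Data.D4.valid, Data.D4.chkComm, Data.D4.chkSorted, Data.D4.chkSplit⟩,
      Data.D4.chkPerfect, Data.D4.datum_eq,
      fun E _ c => ⟨yLiftT Data.D4.valid Data.D4.chkComm d4_chkTorus hok c⟩⟩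
  · have hok : FieldOk K f4CertEven := ⟨fun k hk => by
      simp [f4CertEven] at hk; rcases hk with rfl | rfl <;> assumption,
      fun k hk => by simp [f4CertEven] at hk; simp [hk], fun h => by simp [f4CertEven] at h⟩
    exact ⟨_, _, ⟨Data.F4.valid, Data.F4.chkComm, Data.F4.chkSorted, Data.F4.chkSplit⟩,
      Data.F4.chkPerfect, Data.F4.datum_eq,
      fun E _ c => ⟨yLiftT Data.F4.valid Data.F4.chkComm f4_chkTorus_even hok c⟩⟩
  · exact ⟨_, _, ⟨Data.E6.valid, Data.E6.chkComm, Data.E6.chkSorted, Data.E6.chkSplit⟩,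
      Data.E6.chkPerfect, Data.E6.datum_eq,
      fun E _ c => ⟨yLift Data.E6.valid Data.E6.chkComm e6_chkLaced c⟩⟩
  · exact ⟨_, _, ⟨Data.E7.valid, Data.E7.chkComm, Data.E7.chkSorted, Data.E7.chkSplit⟩,
      Data.E7.chkPerfect, Data.E7.datum_eq,
      fun E _ c => ⟨yLift Data.E7.valid Data.E7.chkComm e7_chkLaced c⟩⟩
  · exact ⟨_, _, ⟨Data.E8.valid, Data.E8.chkComm, Data.E8.chkSorted, Data.E8.chkSplit⟩,
      Data.E8.chkPerfect, Data.E8.datum_eq,
      fun E _ c => ⟨yLift Data.E8.valid Data.E8.chkComm e8_chkLaced c⟩⟩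

end CfsgLib.KnownA.SteinbergUniv
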