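import Cfsg.Agent.Lib.KnownA.SteinbergLaced
import Cfsg.Agent.Lib.Chevalley.Data.E8

/-!
Certificates for the lifts in central extensions, type E8.
-/

set_option autoImplicit false
set_option maxRecDepth 20000
set_option Elab.async false

namespace CfsgLib.KnownA.SteinbergUniv

open CfsgLib.Chevalley

theorem e8_rows0 :
    allLt (fun j => !(Nat.blt (10 * 0 + j) Data.E8.tbl.n) || chkRow Data.E8.tbl (10 * 0 + j)) 10 = true := by decide +kernel

theorem e8_rows1 :
    allLt (fun j => !(Nat.blt (10 * 1 + j) Data.E8.tbl.n) || chkRow Data.E8.tbl (10 * 1 + j)) 10 = true := by decide +kernel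

theorem e8_rows2 :
    allLt (fun j => !(Nat.blt (10 * 2 + j) Data.E8.tbl.n) || chkRow Data.E8.tbl (10 * 2 + j)) 10 = true := by decide +kernel

theorem e8_rows3 :
    allLt (fun j => !(Nat.blt (10 * 3 + j) Data.E8.tbl.n) || chkRow Data.E8.tbl (10 * 3 + j)) 10 = true := by decide +kernel

theorem e8_rows4 :
    allLt (fun j => !(Nat.blt (10 * 4 + j) Data.E8.tbl.n) || chkRow Data.E8.tbl (10 * 4 + j)) 10 = true := by decide +kernel

theorem e8_rows5 :
    allLt (fun j => !(Nat.blt (10 * 5 + j) Data.E8.tbl.n) || chkRow Data.E8.tbl (10 * 5 + j)) 10 = true := by decide +kernel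

end CfsgLib.KnownA.SteinbergUniv
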